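import Groth.Prelude.Def_Tors
import Mathlib.CategoryTheory.Sites.LocallySurjective
import Mathlib.CategoryTheory.Sites.EpiMono
import Mathlib.CategoryTheory.Sites.ConstantSheaf
import Mathlib.CategoryTheory.Abelian.GrothendieckAxioms.Sheaf
import Mathlib.CategoryTheory.Abelian.GrothendieckCategory.EnoughInjectives
import Mathlib.Algebra.Category.Grp.AB
import Mathlib.Algebra.Homology.DerivedCategory.Ext.EnoughInjectives
import Mathlib.Algebra.Homology.DerivedCategory.Ext.ExactSequences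
import Mathlib.Algebra.Category.Grp.Ulift
import Mathlib.CategoryTheory.Limits.Types.Products
import Mathlib.Data.Finsupp.Basic
import Mathlib.GroupTheory.QuotientGroup.Defs

/-!
# Torsors and the first cohomology of an abelian sheaf
-/

universe u

open CategoryTheory CategoryTheory.Limits Opposite Tors

namespace Groth.Agent.Lib.TorsH1

variable {C : Type u} [SmallCategory C] {J : GrothendieckTopology C}
  {F : Sheaf J AddCommGrpCat.{u}}

/-- A global section of a presheaf, as a compatible family. -/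
abbrev Fam (F : Cᵒᵖ ⥤ AddCommGrpCat.{u}) : Type u :=
  {s : ∀ U, F.obj U // ∀ {U V : Cᵒᵖ} (f : U ⟶ V), F.map f (s U) = s V}

theorem sheaf_types (F : Sheaf J AddCommGrpCat.{u}) :
    Presieve.IsSheaf J (F.obj ⋙ forget AddCommGrpCat.{u}) :=
  (isSheaf_iff_isSheaf_of_type _ _).mp ((sheafCompose J (forget AddCommGrpCat.{u})).obj F).property

theorem torsor_sheaf {G : Sheaf J AddCommGrpCat.{u}} (T : Torsor G) : Presieve.IsSheaf J T.P.obj :=
  (isSheaf_iff_isSheaf_of_type _ _).mp T.P.property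

theorem eq_of_locally (F : Sheaf J AddCommGrpCat.{u}) {U : C} (S : Sieve U) (hS : S ∈ J U)
    (x y : F.obj.obj (op U)) (h : ∀ ⦃V⦄ (f : V ⟶ U), S f → F.obj.map f.op x = F.obj.map f.op y) :
    x = y :=
  ((sheaf_types F) S hS).isSeparatedFor.ext fun V f hf => h f hf

noncomputable abbrev Z (J : GrothendieckTopology C) : Sheaf J AddCommGrpCat.{u} :=
  (constantSheaf J AddCommGrpCat.{u}).obj (AddCommGrpCat.of (ULift.{u} ℤ))

/-- The family of values at `1` of a morphism from the constant sheaf `ℤ`. -/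
noncomputable def famOfHom (a : Z J ⟶ F) : Fam F.obj :=
  ⟨fun U => ((sheafificationAdjunction J AddCommGrpCat.{u}).homEquiv _ F a).app U (ULift.up (1 : ℤ)),
    fun f => (NatTrans.naturality_apply
      ((sheafificationAdjunction J AddCommGrpCat.{u}).homEquiv _ F a) f (ULift.up (1 : ℤ))).symm⟩

/-- The morphism from the constant sheaf `ℤ` given by a family. -/
noncomputable def homOfFam (s : Fam F.obj) : Z J ⟶ F :=
  ((sheafificationAdjunction J AddCommGrpCat.{u}).homEquiv
      ((Functor.const Cᵒᵖ).obj (AddCommGrpCat.of (ULift.{u} ℤ))) F).symm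
    { app := fun U => AddCommGrpCat.ofHom ((zmultiplesHom (F.obj.obj U) (s.1 U)).comp
        (AddEquiv.ulift (α := ℤ)).toAddMonoidHom)
      naturality := fun U V f => by
        ext ⟨n⟩
        show n • s.1 V = F.obj.map f (n • s.1 U)
        rw [map_zsmul, s.2] }

theorem famOfHom_homOfFam (s : Fam F.obj) : famOfHom (homOfFam s) = s := by
  refine Subtype.ext (funext fun U => ?_)
  simp only [famOfHom, homOfFam]
  erw [Equiv.apply_symm_apply]
  show (1 : ℤ) • s.1 U = s.1 U
  exact one_zsmul _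

theorem famOfHom_comp {F' : Sheaf J AddCommGrpCat.{u}} (a : Z J ⟶ F) (φ : F ⟶ F') (U : Cᵒᵖ) :
    (famOfHom (a ≫ φ)).1 U = φ.hom.app U ((famOfHom a).1 U) := by
  simp only [famOfHom]
  erw [Adjunction.homEquiv_naturality_right]
  rfl

theorem famOfHom_injective : Function.Injective (famOfHom (F := F)) := by
  intro a b h
  apply ((sheafificationAdjunction J AddCommGrpCat.{u}).homEquiv _ F).injective
  ext U ⟨n⟩
  have := congrArg (fun t : Fam F.obj => t.1 U) h
  have e : (ULift.up n : ULift.{u} ℤ) = n • ULift.up (1 : ℤ) := ULift.ext _ _ (by simp)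
  erw [e, map_zsmul, map_zsmul]
  exact congrArg (n • ·) this

section seq

variable {G I Q : Sheaf J AddCommGrpCat.{u}} (ι : G ⟶ I) (π : I ⟶ Q)

/-- The hypotheses on a short exact sequence of sheaves used below. -/
structure IsSeq : Prop where
  inj : ∀ U, Function.Injective (ι.hom.app U)
  zero : ∀ U (g : G.obj.obj U), π.hom.app U (ι.hom.app U g) = 0
  exact : ∀ U (x : I.obj.obj U), π.hom.app U x = 0 → ∃ g, ι.hom.app U g = x
  surj : ∀ U (q : Q.obj.obj (op U)), ∃ S ∈ J U, ∀ ⦃V⦄ (f : V ⟶ U), S f →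
    ∃ x, π.hom.app (op V) x = Q.obj.map f.op q

variable {ι π}

/-- The presheaf of preimages of a global section of `Q`. -/
def preim (π : I ⟶ Q) (s : Fam Q.obj) : Cᵒᵖ ⥤ Type u where
  obj U := {x : I.obj.obj U // π.hom.app U x = s.1 U}
  map f := TypeCat.ofHom fun x => ⟨I.obj.map f x.1, by
    rw [NatTrans.naturality_apply π.hom f x.1, x.2]; exact s.2 f⟩
  map_id U := by
    ext x
    show I.obj.map (𝟙 U) x.1 = x.1
    rw [I.obj.map_id]
    rfl
  map_comp f g := by
    ext x
    show I.obj.map (f ≫ g) x.1 = I.obj.map g (I.obj.map f x.1)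
    rw [I.obj.map_comp]
    rfl

theorem preim_isSheaf (π : I ⟶ Q) (s : Fam Q.obj) : Presieve.IsSheaf J (preim π s) := by
  intro U S hS x hx
  let y : Presieve.FamilyOfElements (I.obj ⋙ forget AddCommGrpCat.{u}) (S : Presieve U) :=
    fun V f hf => (x f hf).1
  have hy : y.Compatible := fun Y₁ Y₂ V g₁ g₂ f₁ f₂ h₁ h₂ e =>
    congrArg Subtype.val (hx g₁ g₂ h₁ h₂ e)
  obtain ⟨t, ht, htu⟩ := (sheaf_types I) S hS y hy
  have hts : π.hom.app (op U) t = s.1 (op U) := by
    refine eq_of_locally Q S hS _ _ fun V f hf => ?_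
    rw [← NatTrans.naturality_apply π.hom f.op t, s.2]
    have : I.obj.map f.op t = (x f hf).1 := ht f hf
    rw [this]
    exact (x f hf).2
  exact ⟨⟨t, hts⟩, fun V f hf => Subtype.ext (ht f hf),
    fun t' ht' => Subtype.ext (htu t'.1 fun V f hf => congrArg Subtype.val (ht' f hf))⟩

theorem exists_lift_of_hasSection (h : IsSeq ι π) (hT : ∀ T : Torsor G, T.HasSection)
    (s : Fam Q.obj) : ∃ t : Fam I.obj, ∀ U, π.hom.app U (t.1 U) = s.1 U := by
  let T : Torsor G :=
    { P := ⟨preim π s, (isSheaf_iff_isSheaf_of_type _ _).mpr (preim_isSheaf π s)⟩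
      vadd := fun {U} g x => (⟨ι.hom.app U g + x.1, by
        rw [map_add, h.zero, zero_add, x.2]⟩ : (preim π s).obj U)
      zero_vadd := fun {U} x => Subtype.ext (by
        show ι.hom.app U 0 + _ = _
        rw [map_zero, zero_add])
      add_vadd := fun {U} a b x => Subtype.ext (by
        show ι.hom.app U (a + b) + _ = ι.hom.app U a + (ι.hom.app U b + _)
        rw [map_add, add_assoc])
      map_vadd := fun {U V} f g x => Subtype.ext (by
        show I.obj.map f (ι.hom.app U g + _) = ι.hom.app V (G.obj.map f g) + I.obj.map f _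
        rw [map_add, NatTrans.naturality_apply ι.hom f g])
      free_transitive := fun {U} p q => by
        obtain ⟨g, hg⟩ := h.exact U (q.1 - p.1) (by rw [map_sub, q.2, p.2, sub_self])
        refine ⟨g, Subtype.ext (?_ : ι.hom.app U g + _ = _), fun g' hg' => h.inj U ?_⟩
        · rw [hg, sub_add_cancel]
        · have : ι.hom.app U g' + p.1 = q.1 := congrArg Subtype.val hg'
          rw [hg, ← this, add_sub_cancel_right]
      locally_nonempty := fun U => by
        obtain ⟨S, hS, hx⟩ := h.surj U (s.1 (op U))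
        exact ⟨S, hS, fun V f hf => ⟨⟨(hx f hf).choose, (hx f hf).choose_spec.trans (s.2 f.op)⟩⟩⟩ }
  obtain ⟨σ⟩ := hT T
  have hu : ∀ U : Cᵒᵖ, Nonempty (Unique ((⊤_ (Sheaf J (Type u))).obj.obj U)) := fun U =>
    ⟨Types.isTerminalEquivUnique _ (IsTerminal.isTerminalObj
      (sheafToPresheaf J (Type u) ⋙ (evaluation Cᵒᵖ (Type u)).obj U) _ terminalIsTerminal)⟩
  let p : ∀ U : Cᵒᵖ, (preim π s).obj U := fun U => σ.hom.app U (hu U).some.default
  refine ⟨⟨fun U => (p U).1, fun {U V} f => ?_⟩, fun U => (p U).2⟩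
  have := (NatTrans.naturality_apply σ.hom f (hu U).some.default).symm.trans
    (congrArg _ ((hu V).some.uniq _))
  exact congrArg Subtype.val this

end seq

section ext

variable {G I : Sheaf J AddCommGrpCat.{u}} (T : Torsor G)

/-- The relations defining the extension of `ℤ[P]` by `G`. -/
noncomputable def rel (U : Cᵒᵖ) : AddSubgroup ((G.obj.obj U) × (T.P.obj.obj U →₀ ℤ)) :=
  AddSubgroup.closure (Set.range fun gp : (G.obj.obj U) × T.P.obj.obj U =>
    (-gp.1, Finsupp.single (T.vadd gp.1 gp.2) (1 : ℤ) - Finsupp.single gp.2 1))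

noncomputable def push {U V : Cᵒᵖ} (f : U ⟶ V) :
    (G.obj.obj U) × (T.P.obj.obj U →₀ ℤ) →+ (G.obj.obj V) × (T.P.obj.obj V →₀ ℤ) :=
  AddMonoidHom.prodMap (G.obj.map f).hom (Finsupp.mapDomain.addMonoidHom (T.P.obj.map f))

theorem rel_le {U V : Cᵒᵖ} (f : U ⟶ V) : rel T U ≤ (rel T V).comap (push T f) := by
  refine (AddSubgroup.closure_le _).mpr ?_
  rintro _ ⟨⟨g, p⟩, rfl⟩
  refine AddSubgroup.subset_closure ⟨(G.obj.map f g, T.P.obj.map f p), ?_⟩
  simp [push, T.map_vadd, Finsupp.mapDomain_sub, Finsupp.mapDomain_single]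

/-- The extension of the free presheaf on `P` by `G`. -/
noncomputable def extn : Cᵒᵖ ⥤ AddCommGrpCat.{u} where
  obj U := AddCommGrpCat.of ((G.obj.obj U × (T.P.obj.obj U →₀ ℤ)) ⧸ rel T U)
  map f := AddCommGrpCat.ofHom (QuotientAddGroup.map _ _ (push T f) (rel_le T f))
  map_id U := by
    refine AddCommGrpCat.hom_ext (QuotientAddGroup.addMonoidHom_ext _ (AddMonoidHom.ext fun x => ?_))
    show QuotientAddGroup.mk (push T (𝟙 U) x) = QuotientAddGroup.mk x
    congr 1
    obtain ⟨g, p⟩ := x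
    refine Prod.ext ?_ ?_
    · show G.obj.map (𝟙 U) g = g
      rw [G.obj.map_id]; rfl
    · show Finsupp.mapDomain (fun a => T.P.obj.map (𝟙 U) a) p = p
      rw [T.P.obj.map_id]
      exact Finsupp.mapDomain_id
  map_comp f g := by
    refine AddCommGrpCat.hom_ext (QuotientAddGroup.addMonoidHom_ext _ (AddMonoidHom.ext fun x => ?_))
    show QuotientAddGroup.mk (push T (f ≫ g) x) = QuotientAddGroup.mk (push T g (push T f x))
    congr 1
    obtain ⟨a, p⟩ := x
    refine Prod.ext ?_ ?_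
    · show G.obj.map (f ≫ g) a = G.obj.map g (G.obj.map f a)
      rw [G.obj.map_comp]; rfl
    · show Finsupp.mapDomain (fun a => T.P.obj.map (f ≫ g) a) p = _
      rw [T.P.obj.map_comp]
      exact Finsupp.mapDomain_comp (M := ℤ) (f := fun a => T.P.obj.map f a) (g := fun a => T.P.obj.map g a)

/-- The inclusion of `G` into the extension. -/
noncomputable def incl : G.obj ⟶ extn T where
  app U := AddCommGrpCat.ofHom ((QuotientAddGroup.mk' _).comp (AddMonoidHom.inl _ _))
  naturality U V f := by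
    ext g
    show QuotientAddGroup.mk ((G.obj.map f g, 0) : _ × (T.P.obj.obj V →₀ ℤ)) =
      QuotientAddGroup.mk (push T f (g, 0))
    congr 1

theorem incl_injective (U : Cᵒᵖ) : Function.Injective ((incl T).app U) := by
  intro a b hab
  have h : -(a, (0 : T.P.obj.obj U →₀ ℤ)) + (b, 0) ∈ rel T U := QuotientAddGroup.eq.mp hab
  rcases isEmpty_or_nonempty (T.P.obj.obj U) with hP | ⟨⟨p₀⟩⟩
  · have : rel T U = ⊥ := by
      refine eq_bot_iff.mpr ((AddSubgroup.closure_le _).mpr ?_)
      rintro _ ⟨⟨g, p⟩, rfl⟩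
      exact hP.elim p
    rw [this, AddSubgroup.mem_bot] at h
    simpa [neg_add_eq_zero] using congrArg Prod.fst h
  · choose δ hδ hδu using fun p => T.free_transitive p₀ p
    let r : (G.obj.obj U) × (T.P.obj.obj U →₀ ℤ) →+ G.obj.obj U :=
      (AddMonoidHom.fst _ _) +
        (Finsupp.liftAddHom fun p => zmultiplesHom _ (δ p)).comp (AddMonoidHom.snd _ _)
    have hr : rel T U ≤ r.ker := by
      refine (AddSubgroup.closure_le _).mpr ?_
      rintro _ ⟨⟨g, p⟩, rfl⟩
      have : δ (T.vadd g p) = g + δ p := (hδu (T.vadd g p) (g + δ p) (by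
        show T.vadd (g + δ p) p₀ = _
        rw [T.add_vadd, hδ])).symm
      show r _ = 0
      simp [r, this, sub_eq_add_neg, Finsupp.sum_neg_index]
    have := hr h
    simpa [r, neg_add_eq_zero, AddMonoidHom.mem_ker] using this

/-- An equivariant map from a torsor to an injective presheaf containing `G`. -/
theorem exists_equivariant [Injective I.obj] (ι : G ⟶ I) :
    ∃ φ : ∀ U, T.P.obj.obj U → I.obj.obj U,
      (∀ {U V : Cᵒᵖ} (f : U ⟶ V) p, I.obj.map f (φ U p) = φ V (T.P.obj.map f p)) ∧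
      ∀ U (g : G.obj.obj U) p, φ U (T.vadd g p) = ι.hom.app U g + φ U p := by
  have : ∀ U, Mono ((incl T).app U) := fun U =>
    ConcreteCategory.mono_of_injective _ (incl_injective T U)
  have : Mono (incl T) := NatTrans.mono_of_mono_app _
  let ψ : extn T ⟶ I.obj := Injective.factorThru ι.hom (incl T)
  have hψ : ∀ U g, ψ.app U ((incl T).app U g) = ι.hom.app U g := fun U g =>
    ConcreteCategory.congr_hom (NatTrans.congr_app (Injective.comp_factorThru ι.hom (incl T)) U) g
  refine ⟨fun U p => ψ.app U (QuotientAddGroup.mk ((0 : G.obj.obj U), Finsupp.single p (1 : ℤ))),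
    fun {U V} f p => ?_, fun U g p => ?_⟩
  · refine (NatTrans.naturality_apply ψ f _).symm.trans (congrArg (ψ.app V) ?_)
    show QuotientAddGroup.mk (push T f _) = QuotientAddGroup.mk _
    first | rfl | simp [push]
  · rw [← hψ]
    refine Eq.trans ?_ ((ψ.app U).hom.map_add _ _)
    refine congrArg (ψ.app U) (QuotientAddGroup.eq.mpr ?_)
    have h := AddSubgroup.neg_mem _ (AddSubgroup.subset_closure (k := Set.range _)
      ⟨(g, p), rfl⟩ : _ ∈ rel T U)
    refine (congrArg (· ∈ rel T U) ?_).mp h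
    ext1 <;> simp [sub_eq_add_neg, add_comm]

end ext

section main

variable {G I Q : Sheaf J AddCommGrpCat.{u}} {ι : G ⟶ I} {π : I ⟶ Q}

theorem hasSection_of_lift (h : IsSeq ι π) [Injective I.obj]
    (hl : ∀ s : Fam Q.obj, ∃ t : Fam I.obj, ∀ U, π.hom.app U (t.1 U) = s.1 U) (T : Torsor G) :
    T.HasSection := by
  obtain ⟨φ, hφm, hφv⟩ := exists_equivariant T ι
  have hinv : ∀ U (p q : T.P.obj.obj U), π.hom.app U (φ U p) = π.hom.app U (φ U q) := fun U p q => by
    obtain ⟨g, hg, -⟩ := T.free_transitive p q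
    rw [← hg, hφv, map_add, h.zero, zero_add]
  have hq : ∀ U : C, ∃ x : Q.obj.obj (op U), ∀ ⦃V⦄ (f : V ⟶ U) (p : T.P.obj.obj (op V)),
      Q.obj.map f.op x = π.hom.app (op V) (φ (op V) p) := by
    intro U
    obtain ⟨S₀, hS₀, hne⟩ := T.locally_nonempty U
    let S : Sieve U :=
      { arrows := fun V f => Nonempty (T.P.obj.obj (op V))
        downward_closed := fun ⟨p⟩ g => ⟨T.P.obj.map g.op p⟩ }
    have hS : S ∈ J U := J.superset_covering (fun V f hf => hne f hf) hS₀
    let y : Presieve.FamilyOfElements (Q.obj ⋙ forget AddCommGrpCat.{u}) (S : Presieve U) :=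
      fun V f hf => π.hom.app (op V) (φ (op V) hf.some)
    obtain ⟨x, hx, -⟩ := (sheaf_types Q) S hS y (fun Y₁ Y₂ V g₁ g₂ f₁ f₂ h₁ h₂ e => by
      show Q.obj.map g₁.op _ = Q.obj.map g₂.op _
      rw [← NatTrans.naturality_apply π.hom, ← NatTrans.naturality_apply π.hom, hφm, hφm]
      exact hinv _ _ _)
    exact ⟨x, fun V f p => (hx f ⟨p⟩).trans (hinv _ _ _)⟩
  choose s hs using hq
  let sf : Fam Q.obj := ⟨fun U => s U.unop, fun {U V} f => by
    obtain ⟨S₀, hS₀, hne⟩ := T.locally_nonempty V.unop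
    refine eq_of_locally Q S₀ hS₀ _ _ fun W g hg => ?_
    obtain ⟨p⟩ := hne g hg
    rw [hs V.unop g p, ← hs U.unop (g ≫ f.unop) p, op_comp, Quiver.Hom.op_unop, Functor.map_comp]
    rfl⟩
  obtain ⟨t, ht⟩ := hl sf
  have hp : ∀ U (p : T.P.obj.obj U), ∃! q, φ U q = t.1 U := fun U p => by
    obtain ⟨g, hg⟩ := h.exact U (t.1 U - φ U p) (by
      rw [map_sub, ht, sub_eq_zero]
      have := hs U.unop (𝟙 _) p
      rw [op_id, Q.obj.map_id] at this
      exact this)
    refine ⟨T.vadd g p, ?_, fun q hq => ?_⟩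
    · show φ U (T.vadd g p) = t.1 U
      rw [hφv, hg, sub_add_cancel]
    · obtain ⟨g', hg', -⟩ := T.free_transitive p q
      rw [← hg', hφv] at hq
      rw [← hg']
      exact congrArg (fun g => T.vadd g p) (h.inj U (by rw [hg, ← hq, add_sub_cancel_right]))
  have hglue : ∀ U : C, ∃! q : T.P.obj.obj (op U), φ (op U) q = t.1 (op U) := by
    intro U
    obtain ⟨S₀, hS₀, hne⟩ := T.locally_nonempty U
    let y : Presieve.FamilyOfElements T.P.obj (S₀ : Presieve U) :=
      fun V f hf => (hp (op V) (hne f hf).some).choose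
    have hy : ∀ ⦃V⦄ (f : V ⟶ U) (hf : S₀ f), φ (op V) (y f hf) = t.1 (op V) := fun V f hf =>
      (hp (op V) (hne f hf).some).choose_spec.1
    obtain ⟨q, hq, -⟩ := (torsor_sheaf T) S₀ hS₀ y (fun Y₁ Y₂ V g₁ g₂ f₁ f₂ h₁ h₂ e => by
      refine (hp (op V) (T.P.obj.map g₁.op (y f₁ h₁))).unique ?_ ?_
      · exact (hφm g₁.op _).symm.trans ((congrArg _ (hy f₁ h₁)).trans (t.2 g₁.op))
      · exact (hφm g₂.op _).symm.trans ((congrArg _ (hy f₂ h₂)).trans (t.2 g₂.op)))
    have hqt : φ (op U) q = t.1 (op U) := eq_of_locally I S₀ hS₀ _ _ fun V f hf => by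
      rw [hφm, hq f hf, hy f hf]; exact (t.2 f.op).symm
    exact ⟨q, hqt, fun q' hq' => (hp (op U) q).unique hq' hqt⟩
  choose q hq hqu using hglue
  refine ⟨⟨{ app := fun U => TypeCat.ofHom fun _ => q U.unop, naturality := fun U V f => ?_ }⟩⟩
  ext x
  show q V.unop = T.P.obj.map f (q U.unop)
  refine (hqu V.unop _ ?_).symm
  show φ V (T.P.obj.map f (q U.unop)) = t.1 V
  rw [← hφm]
  exact (congrArg (I.obj.map f) (hq U.unop)).trans (t.2 f)

end main

theorem exists_seq (G : Sheaf J AddCommGrpCat.{u}) :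
    ∃ (S : ShortComplex (Sheaf J AddCommGrpCat.{u})), S.ShortExact ∧ S.X₁ = G ∧
      Injective S.X₂ ∧ Injective S.X₂.obj ∧ IsSeq S.f S.g := by
  let S := ShortComplex.mk (Injective.ι G) (cokernel.π (Injective.ι G)) (cokernel.condition _)
  have hex : S.Exact := S.exact_of_g_is_cokernel (cokernelIsCokernel _)
  have : Mono S.f := inferInstanceAs (Mono (Injective.ι G))
  have : Epi S.g := inferInstanceAs (Epi (cokernel.π _))
  have hI : Injective S.X₂ := inferInstanceAs (Injective (Injective.under G))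
  refine ⟨S, ShortComplex.ShortExact.mk' hex ‹_› ‹_›, rfl, hI, ?_, ?_⟩
  · exact Injective.injective_of_adjoint (sheafificationAdjunction J AddCommGrpCat.{u}) S.X₂
  have hker : ∀ U : Cᵒᵖ, Function.Injective (S.f.hom.app U) ∧
      ∀ x, S.g.hom.app U x = 0 → ∃ g, S.f.hom.app U g = x := fun U => by
    let F := sheafToPresheaf J AddCommGrpCat.{u} ⋙ (evaluation Cᵒᵖ AddCommGrpCat.{u}).obj U
    have h₁ := hex.map_of_mono_of_preservesKernel F inferInstance inferInstance
    refine ⟨(AddCommGrpCat.mono_iff_injective _).mp (inferInstanceAs (Mono (F.map S.f))), ?_⟩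
    exact fun x hx => (ShortComplex.ab_exact_iff _).mp h₁ x hx
  refine ⟨fun U => (hker U).1, fun U g => ?_, fun U => (hker U).2, fun U q => ?_⟩
  · exact ConcreteCategory.congr_hom (NatTrans.congr_app
      (congrArg (sheafToPresheaf J AddCommGrpCat.{u}).map S.zero) U) g
  · have hls : Sheaf.IsLocallySurjective S.g :=
      (Sheaf.isLocallySurjective_iff_epi' _ S.g).mpr ‹_›
    exact ⟨_, Presheaf.imageSieve_mem J S.g.hom q, fun V f hf => hf⟩

end Groth.Agent.Lib.TorsH1
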